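import Groth.Agent.FibPropLib.Ring
import Groth.Agent.RegLocLib.Basic
import Groth.Agent.CyclicRootLib.Regular
import Groth.Agent.NormalTensor.Hom

/-!
Regular and normal homomorphisms as instances of `Fib`.
-/

set_option autoImplicit false
set_option linter.style.haveILetI false
set_option backward.isDefEq.respectTransparency false

universe u

open TensorProduct

namespace Groth.Agent.FibPropLib

theorem exists_prime_away {S : Type u} [CommRing S] {s : Set S} (hs : Ideal.span s = ⊤) (q : Ideal S) [hq : q.IsPrime] :
    ∃ a ∈ s, ∃ Q : PrimeSpectrum (Localization.Away a),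
      Q.asIdeal.comap (algebraMap S (Localization.Away a)) = q := by
  obtain ⟨a, ha, haq⟩ : ∃ a ∈ s, a ∉ q := by
    by_contra! h
    exact hq.ne_top (top_le_iff.1 (hs ▸ Ideal.span_le.2 h))
  obtain ⟨Q, hQ⟩ : (⟨q, hq⟩ : PrimeSpectrum S) ∈ Set.range (PrimeSpectrum.comap (algebraMap S (Localization.Away a))) := by
    rw [PrimeSpectrum.localization_away_comap_range (Localization.Away a) a]
    exact haq
  exact ⟨a, ha, Q, congrArg PrimeSpectrum.asIdeal hQ⟩

theorem isRegularRing_of_span {S : Type u} [CommRing S] [IsNoetherianRing S] (s : Set S) (hs : Ideal.span s = ⊤)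
    (h : ∀ a ∈ s, IsRegularRing (Localization.Away a)) : IsRegularRing S := by
  refine isRegularRing_iff.2 fun q _ => ?_
  obtain ⟨a, ha, Q, hQ⟩ := exists_prime_away hs q
  haveI := h a ha
  have h1 := (RegLocLib.mem_regLocus_iff_of_isLocalization (Submonoid.powers a) Q).1
    (@IsRegularRing.isRegularLocalRing_localization _ _ _ Q.asIdeal Q.isPrime)
  subst hQ
  exact h1

theorem isNormalRing_of_span {S : Type u} [CommRing S] (s : Set S) (hs : Ideal.span s = ⊤)
    (h : ∀ a ∈ s, EGA4.IsNormalRing (Localization.Away a)) : EGA4.IsNormalRing S := by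
  intro q _
  obtain ⟨a, ha, Q, hQ⟩ := exists_prime_away hs q
  obtain ⟨hd, hi⟩ := h a ha Q.asIdeal
  subst hQ
  haveI : IsLocalization.AtPrime (Localization.AtPrime Q.asIdeal) (Q.asIdeal.comap (algebraMap S (Localization.Away a))) :=
    IsLocalization.isLocalization_isLocalization_atPrime_isLocalization (Submonoid.powers a) _ Q.asIdeal
  let e := (IsLocalization.algEquiv (Q.asIdeal.comap (algebraMap S (Localization.Away a))).primeCompl
    (Localization.AtPrime Q.asIdeal) (Localization.AtPrime (Q.asIdeal.comap (algebraMap S (Localization.Away a))))).toRingEquiv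
  exact ⟨e.symm.injective.isDomain, IsIntegrallyClosed.of_equiv e⟩

theorem good_regular : Good.{u} (fun S _ => IsRegularRing S) where
  iso := fun {S T} _ _ e h => by haveI := h; exact IsRegularRing.of_ringEquiv e
  loc := fun {S} _ _ M T _ _ _ h => by haveI := h; exact CyclicRootLib.isRegularRing_of_isLocalization M T
  span := fun {S} _ _ s hs h => isRegularRing_of_span s hs h
  desc := fun A B _ _ _ _ _ _ h => by haveI := h; exact RegDesc.isRegularRing_of_faithfullyFlat A B

theorem good_normal : Good.{u} (fun S _ => EGA4.IsNormalRing S) where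
  iso := fun e h => NormalTensor.isNormalRing_of_ringEquiv e h
  loc := fun M _ _ _ _ h => NormalTensor.isNormalRing_localization M h
  span := fun s hs h => isNormalRing_of_span s hs h
  desc := fun A B _ _ _ _ _ _ h => NormalTensor.isNormalRing_of_faithfullyFlat A B h

/-- Noetherian fibre rings give Noetherian rings after base change to fields essentially of finite type. -/
theorem isNoetherianRing_tensor_field {R S : Type u} [CommRing R] [CommRing S] [Algebra R S]
    (h : ∀ (p : Ideal R) [p.IsPrime], IsNoetherianRing (p.Fiber S)) (K : Type u) [Field K] [Algebra R K]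
    [Algebra.EssFiniteType R K] : IsNoetherianRing (K ⊗[R] S) := by
  let p : Ideal R := RingHom.ker (algebraMap R K)
  haveI : p.IsPrime := RingHom.ker_isPrime _
  let κ := p.ResidueField
  letI : Algebra κ K := (Ideal.ResidueField.lift p (algebraMap R K) le_rfl (fun x hx =>
    isUnit_iff_ne_zero.2 hx)).toAlgebra
  haveI : IsScalarTower R κ K := IsScalarTower.of_algebraMap_eq fun r =>
    (Ideal.ResidueField.lift_algebraMap p (algebraMap R K) _ _ r).symm
  haveI : Algebra.EssFiniteType κ K := Algebra.EssFiniteType.of_comp R κ K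
  haveI := h p
  haveI : IsNoetherianRing (K ⊗[κ] (p.Fiber S)) := RegDesc.isNoetherianRing_tensor_essFiniteType κ K _
  exact isNoetherianRing_of_ringEquiv (K ⊗[κ] (p.Fiber S))
    (Algebra.TensorProduct.cancelBaseChange R κ K K S).toRingEquiv

theorem fib_regular_iff {R S : Type u} [CommRing R] [CommRing S] [Algebra R S] :
    Fib (fun T _ => IsRegularRing T) R S ↔ CAlg.IsRegularHom R S := by
  refine ⟨fun h => ?_, fun h => ⟨h.1, fun K _ _ hK => ?_⟩⟩
  · haveI := h.1
    exact RegHomLib.isRegularHom_of_fields (fun p _ => (h.2 p.ResidueField inferInstance).1) fun K _ _ hqf _ =>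
      (h.2 K (RegDesc.essFiniteType_field_of_quasiFinite R K)).2
  · haveI := isNoetherianRing_tensor_field (fun p _ => (h.2 p).1) K
    exact ⟨inferInstance, RegDesc.regular_tensor_any_field h K⟩

theorem fib_normal_iff {R S : Type u} [CommRing R] [CommRing S] [Algebra R S] :
    Fib (fun T _ => EGA4.IsNormalRing T) R S ↔
      EGA4.IsNormalHom R S ∧ ∀ (p : Ideal R) [p.IsPrime], IsNoetherianRing (p.Fiber S) := by
  refine ⟨fun h => ⟨⟨h.1, fun p _ k' _ _ hk => ?_⟩, fun p _ => (h.2 p.ResidueField inferInstance).1⟩,
    fun h => ⟨h.1.1, fun K _ _ hK => ⟨isNoetherianRing_tensor_field h.2 K, ?_⟩⟩⟩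
  · letI : Algebra R k' := ((algebraMap p.ResidueField k').comp (algebraMap R p.ResidueField)).toAlgebra
    haveI : IsScalarTower R p.ResidueField k' := IsScalarTower.of_algebraMap_eq fun _ => rfl
    haveI : Module.Finite p.ResidueField k' := hk
    haveI : Algebra.EssFiniteType p.ResidueField k' := inferInstance
    exact NormalTensor.isNormalRing_of_ringEquiv
      (Algebra.TensorProduct.cancelBaseChange R p.ResidueField k' k' S).toRingEquiv.symm
      (h.2 k' (Algebra.EssFiniteType.comp R p.ResidueField k')).2
  · exact NormalTensor.isNormalRing_of_ringEquiv (Algebra.TensorProduct.comm R S K).toRingEquiv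
      (NormalTensor.fieldNormal_of_isNormalHom h.1 K)

end Groth.Agent.FibPropLib
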