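import Groth.Agent.FibPropLib.Scheme
import Groth.Prelude.Def_Found
import Groth.Prelude.Def_EGA4b

/-!
Regular and normal morphisms.
-/

set_option autoImplicit false
set_option linter.style.haveILetI false
set_option backward.isDefEq.respectTransparency false

universe u

open CategoryTheory CategoryTheory.Limits AlgebraicGeometry TensorProduct

namespace Groth.Agent.FibPropLib

/-- Regular morphisms. -/
abbrev RegP : MorphismProperty Scheme.{u} := FP (fun T _ => IsRegularRing T)

/-- Normal morphisms with Noetherian fibre rings. -/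
abbrev NorP : MorphismProperty Scheme.{u} := FP (fun T _ => EGA4.IsNormalRing T)

theorem regP_iff {X Y : Scheme.{u}} (f : X ⟶ Y) :
    RegP f ↔ ∀ (U : X.Opens) (V : Y.Opens) (hU : IsAffineOpen U) (hV : IsAffineOpen V) (hUV : U ≤ f ⁻¹ᵁ V),
      letI := (f.appLE V U hUV).hom.toAlgebra
      CAlg.IsRegularHom Γ(Y, V) Γ(X, U) := by
  haveI := hasRing (C := fun T _ => IsRegularRing T) good_regular.{u}
  rw [HasRingHomProperty.iff_appLE (P := RegP.{u})]
  refine ⟨fun h U V hU hV hUV => ?_, fun h V U e => ?_⟩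
  · letI := (f.appLE V U hUV).hom.toAlgebra
    exact fib_regular_iff.1 (h ⟨V, hV⟩ ⟨U, hU⟩ hUV)
  · letI := (f.appLE V U e).hom.toAlgebra
    exact fib_regular_iff.2 (h U.1 V.1 U.2 V.2 e)

theorem norP_iff {X Y : Scheme.{u}} (f : X ⟶ Y) :
    NorP f ↔ (∀ y : Y, IsLocallyNoetherian (f.fiber y)) ∧
      ∀ (U : X.Opens) (V : Y.Opens) (hU : IsAffineOpen U) (hV : IsAffineOpen V) (hUV : U ≤ f ⁻¹ᵁ V),
        letI := (f.appLE V U hUV).hom.toAlgebra
        EGA4.IsNormalHom Γ(Y, V) Γ(X, U) := by
  haveI := hasRing (C := fun T _ => EGA4.IsNormalRing T) good_normal.{u}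
  refine ⟨fun h => ⟨fun y => isLocallyNoetherian_fibre good_normal f h y, fun U V hU hV hUV => ?_⟩, fun h => ?_⟩
  · letI := (f.appLE V U hUV).hom.toAlgebra
    exact (fib_normal_iff.1 (HasRingHomProperty.appLE (P := NorP.{u}) f h ⟨V, hV⟩ ⟨U, hU⟩ hUV)).1
  · rw [HasRingHomProperty.iff_appLE (P := NorP.{u})]
    intro V U e
    letI := (f.appLE V U e).hom.toAlgebra
    exact fib_normal_iff.2 ⟨h.2 U.1 V.1 U.2 V.2 e, fun p _ => isNoetherianRing_fibre_ring f h.1 U.1 V.1 U.2 V.2 e p⟩

theorem fib_regular_field_iff (k : Type u) [Field k] (S : Type u) [CommRing S] [Algebra k S] :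
    Fib (fun T _ => IsRegularRing T) k S ↔ IsNoetherianRing S ∧ CAlg.IsGeometricallyRegular k S := by
  refine ⟨fun h => ⟨(fib_self good_regular h).1, fun k' _ _ hk => ?_⟩, fun h => ⟨inferInstance, fun K _ _ hK => ?_⟩⟩
  · haveI := hk
    exact (h.2 k' inferInstance).2
  · haveI := h.1
    haveI : IsNoetherianRing (K ⊗[k] S) := RegDesc.isNoetherianRing_tensor_essFiniteType k K S
    exact ⟨inferInstance, RegHomLib.isRegularRing_tensor_of_geometricallyRegular h.2 K⟩

/-- A morphism is regular iff it is flat with geometrically regular fibres. -/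
theorem regP_iff_fibres {X Y : Scheme.{u}} (f : X ⟶ Y) :
    RegP f ↔ Flat f ∧ ∀ (y : Y) (W : (f.fiber y).Opens), IsAffineOpen W →
      letI : Algebra ↑(Y.residueField y) ↑Γ(f.fiber y, W) := ((Scheme.ΓSpecIso (Y.residueField y)).inv ≫ (f.fiberToSpecResidueField y).appTop ≫
        (f.fiber y).presheaf.map (homOfLE le_top).op).hom.toAlgebra
      IsNoetherianRing ↑Γ(f.fiber y, W) ∧ CAlg.IsGeometricallyRegular ↑(Y.residueField y) ↑Γ(f.fiber y, W) := by
  haveI := hasRing (C := fun T _ => IsRegularRing T) good_regular.{u}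
  refine ⟨fun h => ⟨?_, fun y W hW => ?_⟩, fun h => ?_⟩
  · rw [HasRingHomProperty.iff_appLE (P := @Flat)]
    intro U V e
    exact (HasRingHomProperty.appLE (P := RegP.{u}) f h U V e).1
  · letI : Algebra ↑(Y.residueField y) ↑Γ(f.fiber y, W) := ((Scheme.ΓSpecIso (Y.residueField y)).inv ≫ (f.fiberToSpecResidueField y).appTop ≫
        (f.fiber y).presheaf.map (homOfLE le_top).op).hom.toAlgebra
    exact (fib_regular_field_iff (Y.residueField y) Γ(f.fiber y, W)).1
      ((fp_field_iff good_regular _).1 (fp_fibre good_regular f h y) W hW)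
  · haveI := h.1
    refine fp_of_fibres good_regular f fun y => (fp_field_iff good_regular _).2 fun W hW => ?_
    letI : Algebra ↑(Y.residueField y) ↑Γ(f.fiber y, W) := ((Scheme.ΓSpecIso (Y.residueField y)).inv ≫ (f.fiberToSpecResidueField y).appTop ≫
        (f.fiber y).presheaf.map (homOfLE le_top).op).hom.toAlgebra
    exact (fib_regular_field_iff (Y.residueField y) Γ(f.fiber y, W)).2 (h.2 y W hW)

end Groth.Agent.FibPropLib
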