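import Groth.Agent.RegDesc.Basic
import Groth.Agent.FpqcDesc.Noeth
import Mathlib

/-!
Ring maps all of whose field-valued fibres are Noetherian and satisfy a local property `C` of rings
(regular maps, normal maps, ...): locality, base change and faithfully flat descent.
-/

set_option autoImplicit false
set_option linter.style.haveILetI false
set_option backward.isDefEq.respectTransparency false

universe u

open TensorProduct

namespace Groth.Agent.FibPropLib

/-- A local property of rings which descends along faithfully flat maps. -/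
structure Good (C : ∀ (S : Type u) [CommRing S], Prop) : Prop where
  iso : ∀ {S T : Type u} [CommRing S] [CommRing T], (S ≃+* T) → C S → C T
  loc : ∀ {S : Type u} [CommRing S] [IsNoetherianRing S] (M : Submonoid S) (T : Type u) [CommRing T]
    [Algebra S T] [IsLocalization M T], C S → C T
  span : ∀ {S : Type u} [CommRing S] [IsNoetherianRing S] (s : Set S), Ideal.span s = ⊤ →
    (∀ a ∈ s, C (Localization.Away a)) → C S
  desc : ∀ (A B : Type u) [CommRing A] [CommRing B] [IsNoetherianRing A] [IsNoetherianRing B] [Algebra A B]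
    [Module.FaithfullyFlat A B], C B → C A

/-- Flat, and `K ⊗ S` is Noetherian with property `C` for all fields `K` essentially of finite type
over the base. -/
def Fib (C : ∀ (S : Type u) [CommRing S], Prop) (R S : Type u) [CommRing R] [CommRing S] [Algebra R S] : Prop :=
  Module.Flat R S ∧ ∀ (K : Type u) [Field K] [Algebra R K], Algebra.EssFiniteType R K →
    IsNoetherianRing (K ⊗[R] S) ∧ C (K ⊗[R] S)

/-- The same as a property of ring homomorphisms. -/
def FibHom (C : ∀ (S : Type u) [CommRing S], Prop) {R S : Type u} [CommRing R] [CommRing S] (φ : R →+* S) : Prop :=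
  @Fib C R S _ _ φ.toAlgebra

variable {C : ∀ (S : Type u) [CommRing S], Prop}

theorem fibHom_algebraMap {R S : Type u} [CommRing R] [CommRing S] [Algebra R S] :
    FibHom C (algebraMap R S) ↔ Fib C R S := by
  rw [FibHom, toAlgebra_algebraMap]

theorem Good.of_subsingleton (hC : Good C) (S : Type u) [CommRing S] [Subsingleton S] : C S :=
  hC.span (S := S) ∅ (Subsingleton.elim _ _) fun a ha => ha.elim

section

variable {R S : Type u} [CommRing R] [CommRing S] [Algebra R S]

theorem Fib.of_algEquiv (hC : Good C) (h : Fib C R S) {S' : Type u} [CommRing S'] [Algebra R S'] (e : S ≃ₐ[R] S') :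
    Fib C R S' := by
  haveI := h.1
  refine ⟨Module.Flat.of_linearEquiv e.symm.toLinearEquiv, fun K _ _ hK => ?_⟩
  obtain ⟨hn, hc⟩ := h.2 K hK
  let e' := (Algebra.TensorProduct.congr (AlgEquiv.refl : K ≃ₐ[R] K) e).toRingEquiv
  exact ⟨isNoetherianRing_of_ringEquiv (K ⊗[R] S) e', hC.iso e' hc⟩

/-- Localising the target. -/
theorem Fib.localization (hC : Good C) (h : Fib C R S) (M : Submonoid S) (S' : Type u) [CommRing S'] [Algebra S S']
    [IsLocalization M S'] [Algebra R S'] [IsScalarTower R S S'] : Fib C R S' := by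
  haveI := h.1
  haveI : Module.Flat S S' := IsLocalization.flat S' M
  refine ⟨Module.Flat.trans R S S', fun K _ _ hK => ?_⟩
  obtain ⟨hn, hc⟩ := h.2 K hK
  letI : Algebra S (K ⊗[R] S) := Algebra.TensorProduct.rightAlgebra
  letI : Algebra (K ⊗[R] S) (K ⊗[R] S') :=
    (Algebra.TensorProduct.map (AlgHom.id R K) (IsScalarTower.toAlgHom R S S')).toRingHom.toAlgebra
  haveI := RegHomLib.isLocalization_tensor R K S S' M
  exact ⟨IsLocalization.isNoetherianRing (Algebra.algebraMapSubmonoid (K ⊗[R] S) M) _ hn,
    hC.loc (Algebra.algebraMapSubmonoid (K ⊗[R] S) M) _ hc⟩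

/-- Base change along a map essentially of finite type. -/
theorem Fib.baseChange (hC : Good C) (h : Fib C R S) (T : Type u) [CommRing T] [Algebra R T]
    [Algebra.EssFiniteType R T] : Fib C T (T ⊗[R] S) := by
  haveI := h.1
  refine ⟨inferInstance, fun K _ _ hK => ?_⟩
  letI : Algebra R K := ((algebraMap T K).comp (algebraMap R T)).toAlgebra
  haveI : IsScalarTower R T K := IsScalarTower.of_algebraMap_eq fun _ => rfl
  obtain ⟨hn, hc⟩ := h.2 K (Algebra.EssFiniteType.comp R T K)
  let e := (Algebra.TensorProduct.cancelBaseChange R T K K S).toRingEquiv.symm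
  exact ⟨isNoetherianRing_of_ringEquiv (K ⊗[R] S) e, hC.iso e hc⟩

/-- Composition with a localization of the base away from an element. -/
theorem Fib.comp_away (hC : Good C) (r : R) (R' : Type u) [CommRing R'] [Algebra R R'] [IsLocalization.Away r R']
    [Algebra R' S] [IsScalarTower R R' S] (h : Fib C R' S) : Fib C R S := by
  haveI := h.1
  haveI : Module.Flat R R' := IsLocalization.flat R' (Submonoid.powers r)
  refine ⟨Module.Flat.trans R R' S, fun K _ _ hK => ?_⟩
  by_cases hr : algebraMap R K r = 0
  · obtain ⟨v, hv⟩ := ((IsLocalization.Away.algebraMap_isUnit r (S := R')).map (algebraMap R' S)).exists_right_inv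
    rw [← IsScalarTower.algebraMap_apply R R' S] at hv
    haveI : Subsingleton (K ⊗[R] S) := by
      refine subsingleton_of_zero_eq_one ?_
      rw [Algebra.TensorProduct.one_def, ← hv, ← Algebra.smul_def, ← TensorProduct.smul_tmul,
        ← Algebra.algebraMap_eq_smul_one, hr, TensorProduct.zero_tmul]
    exact ⟨inferInstance, hC.of_subsingleton _⟩
  · letI : Algebra R' K := (IsLocalization.Away.lift r (g := algebraMap R K) (isUnit_iff_ne_zero.2 hr)).toAlgebra
    haveI : IsScalarTower R R' K := IsScalarTower.of_algebraMap_eq fun x =>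
      (IsLocalization.Away.lift_eq r _ x).symm
    obtain ⟨hn, hc⟩ := h.2 K (Algebra.EssFiniteType.of_comp R R' K)
    haveI := IsLocalization.tensorProduct_compatibleSMul (Submonoid.powers r) R' K S
    let e := (Algebra.TensorProduct.equivOfCompatibleSMul R R' R K S).toRingEquiv
    exact ⟨isNoetherianRing_of_ringEquiv (K ⊗[R'] S) e, hC.iso e hc⟩

/-- The property is local on the target ring. -/
theorem Fib.of_span (hC : Good C) (s : Set S) (hs : Ideal.span s = ⊤)
    (h : ∀ a ∈ s, Fib C R (Localization.Away a)) : Fib C R S := by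
  classical
  refine ⟨?_, fun K _ _ hK => ?_⟩
  · exact Module.flat_of_isLocalized_span S S s hs (fun a => Localization.Away a.1)
      (fun a => Algebra.linearMap S _) fun a => (h a.1 a.2).1
  obtain ⟨t, hts, ht⟩ := (Ideal.span_eq_top_iff_finite s).1 hs
  let ι : S →+* K ⊗[R] S := (Algebra.TensorProduct.includeRight : S →ₐ[R] K ⊗[R] S).toRingHom
  have hspan : Ideal.span ((t.image ι : Finset (K ⊗[R] S)) : Set (K ⊗[R] S)) = ⊤ := by
    rw [Finset.coe_image, ← Ideal.map_span, ht, Ideal.map_top]
  have key : ∀ a ∈ t, IsNoetherianRing (Localization.Away (ι a)) ∧ C (Localization.Away (ι a)) := by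
    intro a ha
    obtain ⟨hn, hc⟩ := (h a (hts ha)).2 K hK
    letI : Algebra S (K ⊗[R] S) := Algebra.TensorProduct.rightAlgebra
    letI : Algebra (K ⊗[R] S) (K ⊗[R] Localization.Away a) :=
      (Algebra.TensorProduct.map (AlgHom.id R K) (IsScalarTower.toAlgHom R S (Localization.Away a))).toRingHom.toAlgebra
    haveI := RegHomLib.isLocalization_tensor R K S (Localization.Away a) (Submonoid.powers a)
    haveI : IsLocalization (Submonoid.powers (ι a)) (K ⊗[R] Localization.Away a) := by
      have : Algebra.algebraMapSubmonoid (K ⊗[R] S) (Submonoid.powers a) = Submonoid.powers (ι a) :=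
        Submonoid.map_powers (algebraMap S (K ⊗[R] S) : S →* K ⊗[R] S) a
      rw [← this]; infer_instance
    let e := (IsLocalization.algEquiv (Submonoid.powers (ι a)) (K ⊗[R] Localization.Away a)
      (Localization.Away (ι a))).toRingEquiv
    exact ⟨isNoetherianRing_of_ringEquiv (K ⊗[R] Localization.Away a) e, hC.iso e hc⟩
  haveI : IsNoetherianRing (K ⊗[R] S) := AlgebraicGeometry.isNoetherianRing_of_away (t.image ι) hspan fun b => by
    obtain ⟨a, ha, hb⟩ := Finset.mem_image.1 b.2
    rw [← hb]
    exact (key a ha).1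
  refine ⟨inferInstance, hC.span _ hspan fun b hb => ?_⟩
  obtain ⟨a, ha, rfl⟩ := Finset.mem_image.1 hb
  exact (key a ha).2

/-- It is enough to check the property after base changes whose spectra cover the base. -/
theorem Fib.of_cover (hC : Good C) [Module.Flat R S]
    (h : ∀ (p : Ideal R) [p.IsPrime], ∃ (T : Type u) (_ : CommRing T) (_ : Algebra R T) (P : Ideal T),
      P.IsPrime ∧ P.comap (algebraMap R T) = p ∧ Fib C T (T ⊗[R] S)) : Fib C R S := by
  refine ⟨inferInstance, fun K _ _ hK => ?_⟩
  let p : Ideal R := RingHom.ker (algebraMap R K)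
  haveI : p.IsPrime := RingHom.ker_isPrime _
  obtain ⟨T, _, _, P, hP, hPp, hT⟩ := h p
  haveI := hP
  let κ := p.ResidueField
  let K₀ := P.ResidueField
  letI : Algebra κ K := (Ideal.ResidueField.lift p (algebraMap R K) le_rfl (fun x hx =>
    isUnit_iff_ne_zero.2 hx)).toAlgebra
  haveI : IsScalarTower R κ K := IsScalarTower.of_algebraMap_eq fun r =>
    (Ideal.ResidueField.lift_algebraMap p (algebraMap R K) _ _ r).symm
  have hker : ∀ x, algebraMap R K₀ x = 0 ↔ x ∈ p := fun x => by
    rw [IsScalarTower.algebraMap_apply R T K₀, Ideal.algebraMap_residueField_eq_zero, ← hPp, Ideal.mem_comap]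
  letI : Algebra κ K₀ := (Ideal.ResidueField.lift p (algebraMap R K₀) (fun x hx => (hker x).2 hx) (fun x hx =>
    isUnit_iff_ne_zero.2 fun h0 => hx ((hker x).1 h0))).toAlgebra
  haveI : IsScalarTower R κ K₀ := IsScalarTower.of_algebraMap_eq fun r =>
    (Ideal.ResidueField.lift_algebraMap p (algebraMap R K₀) _ _ r).symm
  haveI : Algebra.EssFiniteType κ K := Algebra.EssFiniteType.of_comp R κ K
  obtain ⟨m, hm⟩ := Ideal.exists_maximal (K₀ ⊗[κ] K)
  letI : Field ((K₀ ⊗[κ] K) ⧸ m) := Ideal.Quotient.field m
  let j : K →+* (K₀ ⊗[κ] K) ⧸ m :=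
    (Ideal.Quotient.mk m).comp (Algebra.TensorProduct.includeRight : K →ₐ[κ] K₀ ⊗[κ] K).toRingHom
  letI : Algebra K ((K₀ ⊗[κ] K) ⧸ m) := j.toAlgebra
  haveI : IsScalarTower R K ((K₀ ⊗[κ] K) ⧸ m) := IsScalarTower.of_algebraMap_eq fun r => by
    rw [RingHom.algebraMap_toAlgebra]
    show _ = Ideal.Quotient.mk m ((1 : K₀) ⊗ₜ[κ] algebraMap R K r)
    rw [IsScalarTower.algebraMap_apply R κ K, Algebra.algebraMap_eq_smul_one (A := K), ← TensorProduct.smul_tmul,
      ← Algebra.algebraMap_eq_smul_one (A := K₀), ← IsScalarTower.algebraMap_apply R κ K₀]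
    rfl
  haveI : Algebra.EssFiniteType T K₀ := inferInstance
  haveI : Algebra.EssFiniteType K₀ (K₀ ⊗[κ] K) := inferInstance
  haveI : Algebra.EssFiniteType K₀ ((K₀ ⊗[κ] K) ⧸ m) :=
    Algebra.EssFiniteType.of_surjective (Ideal.Quotient.mkₐ K₀ m) Ideal.Quotient.mk_surjective
  obtain ⟨hn, hc⟩ := hT.2 ((K₀ ⊗[κ] K) ⧸ m) (Algebra.EssFiniteType.comp T K₀ _)
  let L := (K₀ ⊗[κ] K) ⧸ m
  let e := (Algebra.TensorProduct.cancelBaseChange R T L L S).toRingEquiv.trans
    ((Algebra.TensorProduct.comm K (K ⊗[R] S) L).toRingEquiv.trans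
      (Algebra.TensorProduct.cancelBaseChange R K L L S).toRingEquiv).symm
  haveI : IsNoetherianRing ((K ⊗[R] S) ⊗[K] L) := isNoetherianRing_of_ringEquiv (L ⊗[T] (T ⊗[R] S)) e
  haveI : IsNoetherianRing (K ⊗[R] S) := NoethDesc.isNoetherianRing_of_faithfullyFlat _ ((K ⊗[R] S) ⊗[K] L)
  exact ⟨inferInstance, hC.desc (K ⊗[R] S) ((K ⊗[R] S) ⊗[K] L) (hC.iso e hc)⟩

/-- Faithfully flat descent. -/
theorem Fib.of_faithfullyFlat (hC : Good C) (T : Type u) [CommRing T] [Algebra R T] [Module.FaithfullyFlat R T]
    (h : Fib C T (T ⊗[R] S)) : Fib C R S := by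
  haveI := h.1
  haveI : Module.Flat R S := Module.Flat.of_flat_tensorProduct R S T
  refine Fib.of_cover hC fun p _ => ?_
  obtain ⟨P, hP⟩ := PrimeSpectrum.comap_surjective_of_faithfullyFlat (A := R) (B := T) ⟨p, inferInstance⟩
  exact ⟨T, inferInstance, inferInstance, P.asIdeal, P.isPrime, congrArg PrimeSpectrum.asIdeal hP, h⟩

end

theorem propertyIsLocal (hC : Good C) :
    RingHom.PropertyIsLocal @(fun {R S : Type u} [CommRing R] [CommRing S] => FibHom C (R := R) (S := S)) := by
  have htgt : RingHom.StableUnderCompositionWithLocalizationAwayTarget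
      @(fun {R S : Type u} [CommRing R] [CommRing S] => FibHom C (R := R) (S := S)) := by
    intro R S T _ _ _ _ t _ f hf
    algebraize [f, (algebraMap S T).comp f]
    exact Fib.localization hC hf (Submonoid.powers t) T
  have hspan : RingHom.OfLocalizationSpanTarget
      @(fun {R S : Type u} [CommRing R] [CommRing S] => FibHom C (R := R) (S := S)) := by
    intro R S _ _ f s hs H
    letI := f.toAlgebra
    refine Fib.of_span hC s hs fun a ha => ?_
    have := H ⟨a, ha⟩
    rw [show (algebraMap S (Localization.Away a)).comp f = algebraMap R (Localization.Away a) from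
      (IsScalarTower.algebraMap_eq R S (Localization.Away a)).symm] at this
    exact fibHom_algebraMap.1 this
  have hsrc : RingHom.StableUnderCompositionWithLocalizationAwaySource
      @(fun {R S : Type u} [CommRing R] [CommRing S] => FibHom C (R := R) (S := S)) := by
    intro R S T _ _ _ _ r _ f hf
    algebraize [f, f.comp (algebraMap R S)]
    exact Fib.comp_away hC r S hf
  refine ⟨?_, hspan, hspan.ofLocalizationSpan hsrc, htgt⟩
  intro R S _ _ f r R' S' _ _ _ _ _ _ hf
  algebraize [f, (algebraMap S S').comp f, IsLocalization.Away.map R' S' f r]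
  haveI : IsScalarTower R R' S' := IsScalarTower.of_algebraMap_eq fun x => by
    show algebraMap S S' (f x) = IsLocalization.Away.map R' S' f r (algebraMap R R' x)
    rw [IsLocalization.Away.map, IsLocalization.map_eq]
  haveI : Algebra.EssFiniteType R R' := Algebra.EssFiniteType.of_isLocalization R' (Submonoid.powers r)
  have h1 : Fib C R' (R' ⊗[R] S') := (Fib.localization hC hf (Submonoid.powers (f r)) S').baseChange hC R'
  haveI := IsLocalization.tensorProduct_compatibleSMul (Submonoid.powers r) R' R' S'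
  exact h1.of_algEquiv hC ((Algebra.TensorProduct.equivOfCompatibleSMul R R' R' R' S').symm.trans
    (Algebra.TensorProduct.lid R' S'))

end Groth.Agent.FibPropLib
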