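import Groth.Agent.FibPropLib.Inst

/-!
Morphisms of schemes which are locally `Fib C`: base change, fppf descent, and the description by fibres.
-/

set_option autoImplicit false
set_option linter.style.haveILetI false
set_option backward.isDefEq.respectTransparency false

universe u

open CategoryTheory CategoryTheory.Limits AlgebraicGeometry TensorProduct

namespace Groth.Agent.FibPropLib

/-- The morphism property attached to `C`. -/
abbrev FP (C : ∀ (S : Type u) [CommRing S], Prop) : MorphismProperty Scheme.{u} :=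
  affineLocally @(fun {R S : Type u} [CommRing R] [CommRing S] => FibHom C (R := R) (S := S))

variable {C : ∀ (S : Type u) [CommRing S], Prop}

theorem hasRing (hC : Good C) :
    HasRingHomProperty (FP C) @(fun {R S : Type u} [CommRing R] [CommRing S] => FibHom C (R := R) (S := S)) :=
  ⟨propertyIsLocal hC, rfl⟩

theorem spec_iff (hC : Good C) {R S : CommRingCat.{u}} {φ : R ⟶ S} : FP C (Spec.map φ) ↔ FibHom C φ.hom := by
  haveI := hasRing hC
  exact HasRingHomProperty.Spec_iff (P := FP C)

theorem spec_fst_iff (hC : Good C) (R S T : Type u) [CommRing R] [CommRing S] [CommRing T] [Algebra R S]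
    [Algebra R T] :
    FP C (pullback.fst (Spec.map (CommRingCat.ofHom (algebraMap R T))) (Spec.map (CommRingCat.ofHom (algebraMap R S)))) ↔
      Fib C T (T ⊗[R] S) := by
  haveI := hasRing hC
  rw [← pullbackSpecIso_hom_fst R T S, (FP C).cancel_left_of_respectsIso, spec_iff hC]
  exact fibHom_algebraMap

theorem cover_fst {R T : CommRingCat.{u}} {X : Scheme.{u}} (g : X ⟶ Spec R) (φ : R ⟶ T) (i : X.affineCover.I₀) :
    (Scheme.Pullback.openCoverOfRight X.affineCover (Spec.map φ) g).f i ≫ pullback.fst (Spec.map φ) g =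
      pullback.fst (Spec.map φ) (X.affineCover.f i ≫ g) :=
  (pullback.lift_fst _ _ _).trans (Category.comp_id _)

theorem fp_fst_spec (hC : Good C) {R T S : CommRingCat.{u}} (φ : R ⟶ T) (hφ : φ.hom.EssFiniteType)
    (u : Spec S ⟶ Spec R) (h : FP C u) : FP C (pullback.fst (Spec.map φ) u) := by
  obtain ⟨ψ, rfl⟩ := Spec.map_surjective u
  algebraize [φ.hom, ψ.hom]
  have h1 : Fib C R S := (spec_iff hC).1 h
  exact (spec_fst_iff hC R S T).2 (h1.baseChange hC T)

theorem fp_of_fst_spec (hC : Good C) {R T S : CommRingCat.{u}} (φ : R ⟶ T) (hφ : φ.hom.FaithfullyFlat)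
    (u : Spec S ⟶ Spec R) (h : FP C (pullback.fst (Spec.map φ) u)) : FP C u := by
  obtain ⟨ψ, rfl⟩ := Spec.map_surjective u
  algebraize [φ.hom, ψ.hom]
  have h2 : Fib C T (T ⊗[R] S) := (spec_fst_iff hC R S T).1 h
  exact (spec_iff hC).2 (Fib.of_faithfullyFlat hC T h2)

/-- Base change of a morphism to an affine scheme along a map essentially of finite type. -/
theorem fp_bc_spec (hC : Good C) {R T : CommRingCat.{u}} {X : Scheme.{u}} (g : X ⟶ Spec R) (h : FP C g)
    (φ : R ⟶ T) (hφ : φ.hom.EssFiniteType) : FP C (pullback.fst (Spec.map φ) g) := by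
  haveI := hasRing hC
  rw [IsZariskiLocalAtSource.iff_of_openCover (P := FP C) (Scheme.Pullback.openCoverOfRight X.affineCover (Spec.map φ) g)]
  intro i
  exact (cover_fst g φ i).symm ▸ fp_fst_spec hC φ hφ (X.affineCover.f i ≫ g) (IsZariskiLocalAtSource.comp h _)

/-- Base change along a map which factors through an affine open by a map essentially of finite type. -/
theorem fp_bc_affine (hC : Good C) {R T : CommRingCat.{u}} {X Y P : Scheme.{u}} (f : X ⟶ Y) (h : FP C f)
    (i : Spec R ⟶ Y) [IsOpenImmersion i] (φ : R ⟶ T) (hφ : φ.hom.EssFiniteType)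
    {a : P ⟶ X} {b : P ⟶ Spec T} (sq : IsPullback a b f (Spec.map φ ≫ i)) : FP C b := by
  haveI := hasRing hC
  have h1 : FP C (pullback.snd f i) := IsZariskiLocalAtTarget.of_isPullback (IsPullback.of_hasPullback f i) h
  have h2 : FP C (pullback.fst (Spec.map φ) (pullback.snd f i)) := fp_bc_spec hC _ h1 φ hφ
  have sq' : IsPullback (pullback.snd (Spec.map φ) (pullback.snd f i) ≫ pullback.fst f i)
      (pullback.fst (Spec.map φ) (pullback.snd f i)) f (Spec.map φ ≫ i) :=
    (IsPullback.of_hasPullback (Spec.map φ) (pullback.snd f i)).flip.paste_horiz (IsPullback.of_hasPullback f i)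
  rw [← IsPullback.isoIsPullback_hom_snd _ _ sq sq', (FP C).cancel_left_of_respectsIso]
  exact h2

/-- Base change along morphisms locally of finite type. -/
theorem fp_baseChange (hC : Good C) {X Y X' Y' : Scheme.{u}} {f : X ⟶ Y} {f' : X' ⟶ Y'} {g' : X' ⟶ X} {g : Y' ⟶ Y}
    [LocallyOfFiniteType g] (hc : IsPullback g' f' f g) (h : FP C f) : FP C f' := by
  haveI := hasRing hC
  have key : ∀ y : Y', ∃ (T : CommRingCat.{u}) (j : Spec T ⟶ Y') (_ : IsOpenImmersion j),
      y ∈ j.opensRange ∧ FP C (pullback.snd f' j) := by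
    intro y
    obtain ⟨R, i, hi, hyi, -⟩ := Scheme.exists_affine_mem_range_and_range_subset
      (show g y ∈ (⊤ : Y.Opens) from trivial)
    obtain ⟨T, j, hj, hyj, hsub⟩ := Scheme.exists_affine_mem_range_and_range_subset
      (show y ∈ g ⁻¹ᵁ i.opensRange from hyi)
    refine ⟨T, j, hj, hyj, ?_⟩
    have hr : Set.range (j ≫ g) ⊆ Set.range i := by
      rintro _ ⟨z, rfl⟩
      exact hsub ⟨z, rfl⟩
    let φ := IsOpenImmersion.lift i (j ≫ g) hr
    have hφi : φ ≫ i = j ≫ g := IsOpenImmersion.lift_fac _ _ _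
    haveI : LocallyOfFiniteType (φ ≫ i) := by rw [hφi]; infer_instance
    haveI : LocallyOfFiniteType φ := locallyOfFiniteType_of_comp φ i
    obtain ⟨ψ, hψ⟩ := Spec.map_surjective φ
    have hft : ψ.hom.FiniteType :=
      (HasRingHomProperty.Spec_iff (P := @LocallyOfFiniteType)).1 (by rw [hψ]; infer_instance)
    have hess : ψ.hom.EssFiniteType := by
      algebraize [ψ.hom]
      exact (inferInstance : Algebra.EssFiniteType R T)
    refine fp_bc_affine hC f h i ψ hess (a := pullback.fst f' j ≫ g') ?_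
    rw [hψ, hφi]
    exact (IsPullback.of_hasPullback f' j).paste_horiz hc
  choose T j hj hy hfp using key
  haveI := hj
  refine IsZariskiLocalAtTarget.of_iSup_eq_top (P := FP C) (fun y => (j y).opensRange)
    (eq_top_iff.2 fun y _ => TopologicalSpace.Opens.mem_iSup.2 ⟨y, hy y⟩) fun y => ?_
  exact ((FP C).arrow_mk_iso_iff (morphismRestrictOpensRange f' (j y))).2 (hfp y)

theorem fp_descend_spec (hC : Good C) {R T : CommRingCat.{u}} {X : Scheme.{u}} (g : X ⟶ Spec R) (φ : R ⟶ T)
    (hφ : φ.hom.FaithfullyFlat) (h : FP C (pullback.fst (Spec.map φ) g)) : FP C g := by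
  haveI := hasRing hC
  rw [IsZariskiLocalAtSource.iff_of_openCover (P := FP C) X.affineCover]
  intro i
  exact fp_of_fst_spec hC φ hφ (X.affineCover.f i ≫ g) (cover_fst g φ i ▸ IsZariskiLocalAtSource.comp h _)

/-- Descent along flat surjective morphisms locally of finite presentation. -/
theorem fp_descend (hC : Good C) {X Y X' Y' : Scheme.{u}} {f : X ⟶ Y} {f' : X' ⟶ Y'} {g' : X' ⟶ X} {g : Y' ⟶ Y}
    [Flat g] [LocallyOfFinitePresentation g] [Surjective g] (hc : IsPullback g' f' f g) (h : FP C f') : FP C f := by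
  haveI := hasRing hC
  rw [IsZariskiLocalAtTarget.iff_of_openCover (P := FP C) Y.affineCover]
  intro i
  let k := Y.affineCover.f i
  obtain ⟨V : (pullback g k).Opens, hV, e⟩ := (pullback.snd g k).isOpenMap.exists_opens_image_eq_of_prespectralSpace
    (pullback.snd g k).continuous (by simp) isOpen_univ isCompact_univ
  haveI : CompactSpace V := isCompact_iff_compactSpace.mp hV
  obtain ⟨W, p, hsurj, hp, hW⟩ := V.toScheme.exists_hom_isAffine_of_isZariskiLocalAtSource @IsLocalIso
  haveI : IsLocalIso p := hp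
  haveI : Flat p := IsLocalIso.le_of_isZariskiLocalAtSource @Flat _ _ p hp
  haveI : LocallyOfFiniteType p := IsLocalIso.le_of_isZariskiLocalAtSource @LocallyOfFiniteType _ _ p hp
  let q := W.isoSpec.inv ≫ p ≫ V.ι ≫ pullback.snd g k
  haveI : Surjective (p ≫ V.ι ≫ pullback.snd g k) := ⟨fun y => by
    obtain ⟨v, hv, rfl⟩ := e.ge (Set.mem_univ y)
    obtain ⟨w, hw⟩ := hsurj.surj ⟨v, hv⟩
    refine ⟨w, ?_⟩
    rw [Scheme.Hom.comp_apply, Scheme.Hom.comp_apply, hw]
    rfl⟩
  haveI : Surjective q := inferInstanceAs (Surjective (W.isoSpec.inv ≫ p ≫ V.ι ≫ pullback.snd g k))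
  haveI : Flat q := inferInstanceAs (Flat (W.isoSpec.inv ≫ p ≫ V.ι ≫ pullback.snd g k))
  obtain ⟨φ, hφ⟩ := Spec.map_surjective q
  have hff : φ.hom.FaithfullyFlat := by
    rw [RingHom.FaithfullyFlat.iff_flat_and_comap_surjective]
    refine ⟨(HasRingHomProperty.Spec_iff (P := @Flat)).1 (by rw [hφ]; infer_instance), ?_⟩
    have : Surjective (Spec.map φ) := by rw [hφ]; infer_instance
    exact this.surj
  let m := W.isoSpec.inv ≫ p ≫ V.ι ≫ pullback.fst g k
  haveI : LocallyOfFiniteType m := inferInstanceAs (LocallyOfFiniteType (W.isoSpec.inv ≫ p ≫ V.ι ≫ pullback.fst g k))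
  refine fp_descend_spec hC _ φ hff ?_
  rw [hφ]
  have sq : IsPullback (pullback.snd q (Scheme.Cover.pullbackHom Y.affineCover f i) ≫ pullback.fst f k)
      (pullback.fst q (Scheme.Cover.pullbackHom Y.affineCover f i)) f (m ≫ g) := by
    have e1 : m ≫ g = q ≫ k := by simp [m, q, pullback.condition]
    rw [e1]
    exact (IsPullback.of_hasPullback q (pullback.snd f k)).flip.paste_horiz (IsPullback.of_hasPullback f k)
  let P := pullback q (Scheme.Cover.pullbackHom Y.affineCover f i)
  exact fp_baseChange hC (g := m) (g' := hc.lift (pullback.snd q _ ≫ pullback.fst f k)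
    (pullback.fst q _ ≫ m) (by rw [sq.w, Category.assoc]; rfl))
    (IsPullback.of_right (by rw [hc.lift_fst]; exact sq) (hc.lift_snd _ _ _) hc) h

theorem essFiniteType_of_surjectiveOnStalks {R K : Type u} [CommRing R] [Field K] [Algebra R K]
    (hs : (algebraMap R K).SurjectiveOnStalks) : Algebra.EssFiniteType R K := by
  let M : Submonoid R := Submonoid.comap (algebraMap R K : R →* K) (IsUnit.submonoid K)
  haveI : Algebra.EssFiniteType R (Localization M) := Algebra.EssFiniteType.of_isLocalization _ M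
  let φ : Localization M →ₐ[R] K := IsLocalization.liftAlgHom (f := Algebra.ofId R K) fun y : M => y.2
  refine Algebra.EssFiniteType.of_surjective φ fun z => ?_
  obtain ⟨x, r, c, hc, hr, e⟩ := RingHom.surjectiveOnStalks_iff_forall_ideal.1 hs ⊥ bot_ne_top z
  have hunit : ∀ w : K, w ∉ (⊥ : Ideal K) → IsUnit w := fun w hw =>
    isUnit_iff_ne_zero.2 fun h => hw ((Submodule.mem_bot _).2 h)
  have hz : algebraMap R K r * z = algebraMap R K x :=
    (hunit _ hc).mul_left_cancel (by rw [← mul_assoc]; exact e)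
  refine ⟨IsLocalization.mk' _ x (⟨r, hunit _ hr⟩ : M), (hunit _ hr).mul_left_cancel ?_⟩
  rw [hz, ← φ.commutes r, ← map_mul]
  exact (congrArg φ (IsLocalization.mk'_spec' (Localization M) x (⟨r, hunit _ hr⟩ : M))).trans (φ.commutes x)

/-- The fibres of a morphism in `FP C` are in `FP C`. -/
theorem fp_fibre (hC : Good C) {X Y : Scheme.{u}} (f : X ⟶ Y) (h : FP C f) (y : Y) :
    FP C (f.fiberToSpecResidueField y) := by
  obtain ⟨R, i, hi, hyi, -⟩ := Scheme.exists_affine_mem_range_and_range_subset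
    (show y ∈ (⊤ : Y.Opens) from trivial)
  have hr : Set.range (Y.fromSpecResidueField y) ⊆ Set.range i := by
    rintro _ ⟨z, rfl⟩
    rw [Scheme.fromSpecResidueField_apply]
    exact hyi
  let φ := IsOpenImmersion.lift i (Y.fromSpecResidueField y) hr
  have hφi : φ ≫ i = Y.fromSpecResidueField y := IsOpenImmersion.lift_fac _ _ _
  haveI : IsPreimmersion (φ ≫ i) := by rw [hφi]; infer_instance
  haveI : IsPreimmersion φ := IsPreimmersion.of_comp φ i
  obtain ⟨ψ, hψ⟩ := Spec.map_surjective φ
  have hs : ψ.hom.SurjectiveOnStalks :=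
    (HasRingHomProperty.Spec_iff (P := @SurjectiveOnStalks)).1 (by rw [hψ]; infer_instance)
  have hess : ψ.hom.EssFiniteType := by
    algebraize [ψ.hom]
    exact essFiniteType_of_surjectiveOnStalks hs
  refine fp_bc_affine hC f h i ψ hess (a := f.fiberι y) ?_
  rw [hψ, hφi]
  exact IsPullback.of_hasPullback f _

/-- An affine chart of a morphism gives an open piece of each fibre. -/
theorem exists_fibre_chart {X Y : Scheme.{u}} (f : X ⟶ Y) {R S : CommRingCat.{u}} (φ : R ⟶ S) (i : Spec R ⟶ Y)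
    (j : Spec S ⟶ X) [IsOpenImmersion i] [IsOpenImmersion j] (w : Spec.map φ ≫ i = j ≫ f) (p : Spec R) :
    ∃ (ψ : R ⟶ Y.residueField (i p)) (m : pullback (Spec.map ψ) (Spec.map φ) ⟶ f.fiber (i p)),
      IsOpenImmersion m ∧ m ≫ f.fiberToSpecResidueField (i p) = pullback.fst _ _ ∧
      ∀ z : Spec (Y.residueField (i p)), Spec.map ψ z = p := by
  have hr : Set.range (Y.fromSpecResidueField (i p)) ⊆ Set.range i := by
    rintro _ ⟨z, rfl⟩
    rw [Scheme.fromSpecResidueField_apply]
    exact ⟨p, rfl⟩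
  obtain ⟨ψ, hψ⟩ := Spec.map_surjective (IsOpenImmersion.lift i (Y.fromSpecResidueField (i p)) hr)
  have hψi : Spec.map ψ ≫ i = Y.fromSpecResidueField (i p) := by rw [hψ]; exact IsOpenImmersion.lift_fac _ _ _
  let a := pullback.fst (Spec.map ψ) (Spec.map φ)
  let b := pullback.snd (Spec.map ψ) (Spec.map φ)
  let m : pullback (Spec.map ψ) (Spec.map φ) ⟶ f.fiber (i p) := pullback.lift (b ≫ j) a (by
    rw [Category.assoc, ← w, ← pullback.condition_assoc, hψi])
  have hm1 : m ≫ f.fiberι (i p) = b ≫ j := pullback.lift_fst _ _ _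
  have hm2 : m ≫ f.fiberToSpecResidueField (i p) = a := pullback.lift_snd _ _ _
  refine ⟨ψ, m, ?_, hm2, fun z => i.isOpenEmbedding.injective ?_⟩
  · let l : pullback (f.fiberι (i p)) j ⟶ pullback (Spec.map ψ) (Spec.map φ) :=
      pullback.lift (pullback.fst _ _ ≫ f.fiberToSpecResidueField (i p)) (pullback.snd _ _) (by
        rw [← cancel_mono i, Category.assoc, Category.assoc, Category.assoc, hψi, w, ← pullback.condition_assoc]
        exact congrArg (fun t => pullback.fst (f.fiberι (i p)) j ≫ t) pullback.condition.symm)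
    let l' : pullback (Spec.map ψ) (Spec.map φ) ⟶ pullback (f.fiberι (i p)) j := pullback.lift m b hm1
    have h1 : l ≫ m = pullback.fst _ _ := by
      refine pullback.hom_ext ?_ ?_
      · show (l ≫ m) ≫ f.fiberι (i p) = _
        rw [Category.assoc, hm1, ← Category.assoc, pullback.lift_snd, ← pullback.condition]
        rfl
      · show (l ≫ m) ≫ f.fiberToSpecResidueField (i p) = _
        rw [Category.assoc, hm2, pullback.lift_fst]
        rfl
    haveI : IsIso l' := ⟨l, by
      refine pullback.hom_ext ?_ ?_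
      · rw [Category.assoc, pullback.lift_fst, pullback.lift_fst_assoc, hm2, Category.id_comp]
      · rw [Category.assoc, pullback.lift_snd, pullback.lift_snd, Category.id_comp], by
      refine pullback.hom_ext ?_ ?_
      · rw [Category.assoc, pullback.lift_fst, h1, Category.id_comp]
      · rw [Category.assoc, pullback.lift_snd, pullback.lift_snd, Category.id_comp]⟩
    rw [show m = l' ≫ pullback.fst _ _ from (pullback.lift_fst _ _ _).symm]
    infer_instance
  · show i (Spec.map ψ z) = i p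
    rw [← Scheme.Hom.comp_apply, hψi, Scheme.fromSpecResidueField_apply]

/-- A flat morphism all of whose fibres are in `FP C` is in `FP C`. -/
theorem fp_of_fibres (hC : Good C) {X Y : Scheme.{u}} (f : X ⟶ Y) [Flat f]
    (h : ∀ y : Y, FP C (f.fiberToSpecResidueField y)) : FP C f := by
  haveI := hasRing hC
  rw [HasRingHomProperty.iff_appLE (P := FP C)]
  intro U V e
  have hflat : (f.appLE U V e).hom.Flat := HasRingHomProperty.appLE (P := @Flat) f inferInstance U V e
  algebraize [(f.appLE U V e).hom]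
  refine Fib.of_cover hC fun p _ => ?_
  obtain ⟨ψ, m, hm, hm2, hψ⟩ := exists_fibre_chart f (f.appLE U V e) U.2.fromSpec V.2.fromSpec
    (IsAffineOpen.SpecMap_appLE_fromSpec f U.2 V.2 e) ⟨p, inferInstance⟩
  let K := Y.residueField (U.2.fromSpec ⟨p, inferInstance⟩)
  algebraize [ψ.hom]
  obtain ⟨z⟩ : Nonempty (PrimeSpectrum K) := inferInstance
  refine ⟨K, inferInstance, inferInstance, z.asIdeal, z.isPrime, congrArg PrimeSpectrum.asIdeal (hψ z),
    (spec_fst_iff hC Γ(Y, U) Γ(X, V) K).1 ?_⟩
  have := IsZariskiLocalAtSource.comp (P := FP C) (h (U.2.fromSpec ⟨p, inferInstance⟩)) m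
  rw [hm2] at this
  exact this

/-- Noetherian fibre rings from locally Noetherian fibres. -/
theorem isNoetherianRing_fibre_ring {X Y : Scheme.{u}} (f : X ⟶ Y) (hN : ∀ y : Y, IsLocallyNoetherian (f.fiber y))
    (U : X.Opens) (V : Y.Opens) (hU : IsAffineOpen U) (hV : IsAffineOpen V) (hUV : U ≤ f ⁻¹ᵁ V)
    (p : Ideal Γ(Y, V)) [p.IsPrime] :
    letI := (f.appLE V U hUV).hom.toAlgebra
    IsNoetherianRing (p.Fiber Γ(X, U)) := by
  letI := (f.appLE V U hUV).hom.toAlgebra
  obtain ⟨ψ, m, hm, hm2, hψ⟩ := exists_fibre_chart f (f.appLE V U hUV) hV.fromSpec hU.fromSpec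
    (IsAffineOpen.SpecMap_appLE_fromSpec f hV hU hUV) ⟨p, inferInstance⟩
  let K := Y.residueField (hV.fromSpec ⟨p, inferInstance⟩)
  letI : Algebra Γ(Y, V) K := ψ.hom.toAlgebra
  haveI := hm
  haveI := hN (hV.fromSpec ⟨p, inferInstance⟩)
  haveI : IsLocallyNoetherian (pullback (Spec.map ψ) (Spec.map (f.appLE V U hUV))) :=
    isLocallyNoetherian_of_isOpenImmersion m
  haveI : IsLocallyNoetherian (Spec (.of (K ⊗[Γ(Y, V)] Γ(X, U)))) :=
    isLocallyNoetherian_of_isOpenImmersion (pullbackSpecIso Γ(Y, V) K Γ(X, U)).inv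
  haveI : IsNoetherianRing (K ⊗[Γ(Y, V)] Γ(X, U)) := isLocallyNoetherian_Spec.1 ‹IsLocallyNoetherian (Spec _)›
  obtain ⟨z⟩ : Nonempty (PrimeSpectrum K) := inferInstance
  have hker : ∀ x, algebraMap Γ(Y, V) K x = 0 ↔ x ∈ p := fun x => by
    have h1 : z.asIdeal = ⊥ := (Ideal.eq_bot_or_top z.asIdeal).resolve_right z.isPrime.ne_top
    have h2 : z.asIdeal.comap (algebraMap Γ(Y, V) K) = p := congrArg PrimeSpectrum.asIdeal (hψ z)
    have h3 := SetLike.ext_iff.1 h2 x
    rw [Ideal.mem_comap, h1, Submodule.mem_bot] at h3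
    exact h3
  let κ := p.ResidueField
  letI : Algebra κ K := (Ideal.ResidueField.lift p (algebraMap Γ(Y, V) K) (fun x hx => (hker x).2 hx) (fun x hx =>
    isUnit_iff_ne_zero.2 fun h0 => hx ((hker x).1 h0))).toAlgebra
  haveI : IsScalarTower Γ(Y, V) κ K := IsScalarTower.of_algebraMap_eq fun r =>
    (Ideal.ResidueField.lift_algebraMap p (algebraMap Γ(Y, V) K) _ _ r).symm
  haveI : IsNoetherianRing ((p.Fiber Γ(X, U)) ⊗[κ] K) := isNoetherianRing_of_ringEquiv (K ⊗[Γ(Y, V)] Γ(X, U))
    ((Algebra.TensorProduct.comm κ (p.Fiber Γ(X, U)) K).toRingEquiv.trans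
      (Algebra.TensorProduct.cancelBaseChange Γ(Y, V) κ K K Γ(X, U)).toRingEquiv).symm
  exact NoethDesc.isNoetherianRing_of_faithfullyFlat (p.Fiber Γ(X, U)) ((p.Fiber Γ(X, U)) ⊗[κ] K)

theorem fib_self {k S : Type u} [Field k] [CommRing S] [Algebra k S] (hC : Good C) (h : Fib C k S) :
    IsNoetherianRing S ∧ C S := by
  obtain ⟨hn, hc⟩ := h.2 k inferInstance
  exact ⟨isNoetherianRing_of_ringEquiv (k ⊗[k] S) (Algebra.TensorProduct.lid k S).toRingEquiv,
    hC.iso (Algebra.TensorProduct.lid k S).toRingEquiv hc⟩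

/-- `FP C` over a field, read on the coordinate rings of affine opens. -/
theorem fp_field_iff (hC : Good C) {Z : Scheme.{u}} {K : CommRingCat.{u}} (g : Z ⟶ Spec K) :
    FP C g ↔ ∀ W : Z.Opens, IsAffineOpen W →
      FibHom C ((Scheme.ΓSpecIso K).inv ≫ g.appTop ≫ Z.presheaf.map (homOfLE le_top).op : K ⟶ Γ(Z, W)).hom := by
  haveI := hasRing hC
  haveI := HasRingHomProperty.HasAffineProperty (FP C)
  rw [HasAffineProperty.iff_of_isAffine (P := FP C)]
  show (∀ W : Z.affineOpens, FibHom C (g.appLE ⊤ W le_top).hom) ↔ _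
  have hiso : RingHom.RespectsIso @(fun {R S : Type u} [CommRing R] [CommRing S] => FibHom C (R := R) (S := S)) :=
    (propertyIsLocal hC).respectsIso
  rw [Subtype.forall]
  refine forall₂_congr fun W hW => ?_
  rw [CommRingCat.hom_comp (Scheme.ΓSpecIso K).inv, hiso.cancel_left_isIso]
  rfl

/-- The fibres of a morphism in `FP C` are locally Noetherian. -/
theorem isLocallyNoetherian_fibre (hC : Good C) {X Y : Scheme.{u}} (f : X ⟶ Y) (h : FP C f) (y : Y) :
    IsLocallyNoetherian (f.fiber y) := by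
  refine ⟨fun W => ?_⟩
  have h1 := (fp_field_iff hC _).1 (fp_fibre hC f h y) W W.2
  letI : Algebra (Y.residueField y) Γ(f.fiber y, W) := ((Scheme.ΓSpecIso (Y.residueField y)).inv ≫
    (f.fiberToSpecResidueField y).appTop ≫ (f.fiber y).presheaf.map (homOfLE le_top).op).hom.toAlgebra
  exact (fib_self hC h1).1

end Groth.Agent.FibPropLib
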